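import Groth.Agent.TFNodal.K236.SpanAvoid
import Mathlib.LinearAlgebra.FreeModule.Finite.Matrix
import Mathlib.LinearAlgebra.FiniteDimensional.Lemmas

/-!
# Independent families in `Hom(F, P)` for vector spaces with `P` a line
-/

set_option autoImplicit false
universe u v w

namespace K236.JointBij

open Submodule

variable {K F P : Type*} [Field K] [AddCommGroup F] [Module K F] [AddCommGroup P] [Module K P]

theorem finrank_hom {r : ℕ} (eF : F ≃ₗ[K] (Fin r → K)) (eP : P ≃ₗ[K] K) :
    Module.finrank K (F →ₗ[K] P) = r := by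
  have : Module.Finite K F := Module.Finite.equiv eF.symm
  have : Module.Finite K P := Module.Finite.equiv eP.symm
  rw [Module.finrank_linearMap, eF.finrank_eq, eP.finrank_eq]
  simp

theorem finite_hom {r : ℕ} (eF : F ≃ₗ[K] (Fin r → K)) (eP : P ≃ₗ[K] K) :
    Module.Finite K (F →ₗ[K] P) := by
  have : Module.Finite K F := Module.Finite.equiv eF.symm
  have : Module.Finite K P := Module.Finite.equiv eP.symm
  infer_instance

theorem joint_bijective {r : ℕ} (eF : F ≃ₗ[K] (Fin r → K)) (eP : P ≃ₗ[K] K)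
    (ψ : Fin r → (F →ₗ[K] P)) (hψ : LinearIndependent K ψ) :
    Function.Bijective (fun (g : F) (l : Fin r) => ψ l g) := by
  have : Module.Finite K F := Module.Finite.equiv eF.symm
  have : Module.Finite K P := Module.Finite.equiv eP.symm
  have := finite_hom eF eP
  have hspan : span K (Set.range ψ) = ⊤ :=
    hψ.span_eq_top_of_card_eq_finrank' (by rw [finrank_hom eF eP, Fintype.card_fin])
  have hinj : Function.Injective (LinearMap.pi ψ) := by
    rw [injective_iff_map_eq_zero]
    intro g hg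
    have h1 : ∀ χ : F →ₗ[K] P, χ g = 0 := by
      intro χ
      have hχ : χ ∈ span K (Set.range ψ) := by rw [hspan]; trivial
      refine span_induction (p := fun χ _ => χ g = 0) ?_ rfl ?_ ?_ hχ
      · rintro _ ⟨l, rfl⟩
        exact congrFun hg l
      · intro a b _ _ ha hb
        rw [LinearMap.add_apply, ha, hb, add_zero]
      · intro a b _ hb
        rw [LinearMap.smul_apply, hb, smul_zero]
    apply eF.injective
    rw [map_zero]
    funext i
    have h2 := h1 (eP.symm.toLinearMap ∘ₗ LinearMap.proj i ∘ₗ eF.toLinearMap)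
    exact (eP.symm.map_eq_zero_iff).1 h2
  refine ⟨hinj, (LinearMap.injective_iff_surjective_of_finrank_eq_finrank ?_).1 hinj⟩
  rw [eF.finrank_eq, (LinearEquiv.piCongrRight fun _ : Fin r => eP).finrank_eq]

/-- The span condition for a generating family. -/
theorem span_eq_top {N : ℕ} (e : P) (he : Function.Bijective (fun a : K => a • e))
    (φ : Fin N → (F →ₗ[K] P))
    (h : ∀ δ : Module.Dual K F, ∃ a : Fin N → K, ∀ g, δ g • e = ∑ i, a i • φ i g) :
    span K (Set.range φ) = ⊤ := by
  rw [eq_top_iff]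
  rintro χ -
  let c : K ≃ₗ[K] P := LinearEquiv.ofBijective (LinearMap.toSpanSingleton K P e) he
  obtain ⟨a, ha⟩ := h (c.symm.toLinearMap ∘ₗ χ)
  have h1 : χ = ∑ i, a i • φ i := by
    refine LinearMap.ext fun g => ?_
    rw [LinearMap.sum_apply]
    refine Eq.trans ?_ (ha g)
    exact (c.apply_symm_apply (χ g)).symm
  rw [h1]
  exact sum_mem fun i _ => smul_mem _ _ (subset_span ⟨i, rfl⟩)

/-- **Choice of combinations.** -/
theorem exists_choice {k : Type u} [Field k] [Infinite k] {T : Type v} [Finite T] {N r : ℕ}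
    (R : T → Type w) [∀ t, CommRing (R t)] (hR : ∀ t, IsField (R t)) (σ : ∀ t, k →+* R t)
    (F P : T → Type w) [∀ t, AddCommGroup (F t)] [∀ t, Module (R t) (F t)]
    [∀ t, AddCommGroup (P t)] [∀ t, Module (R t) (P t)]
    (eF : ∀ t, F t ≃ₗ[R t] (Fin r → R t))
    (e : ∀ t, P t) (he : ∀ t, Function.Bijective (fun a : R t => a • e t))
    (φ : ∀ t, Fin N → (F t →ₗ[R t] P t))
    (h : ∀ t, ∀ δ : Module.Dual (R t) (F t), ∃ a : Fin N → R t, ∀ g,
      δ g • e t = ∑ i, a i • φ t i g) :
    ∃ c : Fin r → Fin N → k, ∀ t,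
      Function.Bijective (fun (g : F t) (l : Fin r) => ∑ i, σ t (c l i) • φ t i g) := by
  let : ∀ t, Field (R t) := fun t => (hR t).toField
  let eP : ∀ t, P t ≃ₗ[R t] R t := fun t =>
    (LinearEquiv.ofBijective (LinearMap.toSpanSingleton (R t) (P t) (e t)) (he t)).symm
  have : ∀ t, Module.Finite (R t) (F t →ₗ[R t] P t) := fun t => finite_hom (eF t) (eP t)
  obtain ⟨c, hc⟩ := SpanAvoid.exists_good (k := k) R σ (fun t => F t →ₗ[R t] P t)
    (fun t => finrank_hom (eF t) (eP t)) φ (fun t => span_eq_top (e t) (he t) (φ t) (h t)) r le_rfl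
  refine ⟨c, fun t => ?_⟩
  have h1 := joint_bijective (eF t) (eP t) _ (hc t)
  convert h1 using 3 with g l
  rw [LinearMap.sum_apply]
  rfl

end K236.JointBij
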