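import Groth.Agent.Coh.K415.DualEmb
import Groth.Agent.Coh.K415.DualEmb2
import Groth.Agent.TFNodal.K236.JointBij
import Groth.Agent.TFNodal.K977.Generic
import Groth.Agent.Coherent.K47.GenIso
import Groth.Agent.SDiv.K471.StalkPrimes
import Groth.Agent.CurvesB.DimPts
import Groth.Agent.CurvesB.PairLemma
import Groth.Agent.CurvesB.SubRank
import Groth.Agent.VarietyA.StalkCrit
import Groth.Agent.Dcoh.StalkMod

/-!
# Depth one and uniform rank on a reduced curve: embeddings into sums of powers of an ample module
-/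

set_option autoImplicit false
universe u

open CategoryTheory CategoryTheory.Limits AlgebraicGeometry Opposite TopologicalSpace
open Groth.Agent Groth.Agent.CycB.StalkExact
open Groth.Agent.Coherent.K47

namespace K236.MonoTwist

variable {X : Scheme.{u}}

/-- On a reduced scheme of dimension at most one the local rings of the non-closed points are
fields. -/
theorem isField_of_not_isClosed [AlgebraicGeometry.IsReduced X] (hdim : topologicalKrullDim X ≤ 1)
    (x : X) (hx : ¬ IsClosed ({x} : Set X)) : IsField (X.presheaf.stalk x) := by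
  have h := CurvesB.DimPts.ringKrullDim_stalk_eq_zero_of_not_isClosed hdim x hx
  have : Ring.KrullDimLE 0 (X.presheaf.stalk x) := Ring.krullDimLE_iff.2 h.le
  exact Ring.KrullDimLE.isField_of_isReduced

/-- There are finitely many points whose local ring is a field. -/
theorem finite_isField [IsNoetherian X] : Finite {η : X // IsField (X.presheaf.stalk η)} := by
  have hfin : (irreducibleComponents (X : Type u)).Finite :=
    NoetherianSpace.finite_irreducibleComponents
  have key : ∀ η : X, IsField (X.presheaf.stalk η) → irreducibleComponent η = closure {η} := by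
    intro η hη
    obtain ⟨ζ, hζ⟩ := QuasiSober.sober (isIrreducible_irreducibleComponent (x := η))
      isClosed_irreducibleComponent
    have h1 : ζ ⤳ η := by
      rw [specializes_iff_mem_closure, hζ.def]
      exact mem_irreducibleComponent
    obtain ⟨W, hηW, hW⟩ := K977.TFGeneric.exists_open_subset_closure η hη
    have h2 : η ⤳ ζ := specializes_iff_mem_closure.2 (hW (h1.mem_open W.2 hηW))
    have h3 : ζ = η := (h1.antisymm h2).eq
    rw [← hζ.def, h3]
  have : Finite (irreducibleComponents (X : Type u)) := hfin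
  let f : {η : X // IsField (X.presheaf.stalk η)} → irreducibleComponents (X : Type u) :=
    fun η => ⟨irreducibleComponent η.1, irreducibleComponent_mem_irreducibleComponents η.1⟩
  refine Finite.of_injective f ?_
  rintro ⟨η, hη⟩ ⟨η', hη'⟩ h
  have h1 : irreducibleComponent η = irreducibleComponent η' := congrArg Subtype.val h
  rw [key η hη, key η' hη'] at h1
  refine Subtype.ext ?_
  have h2 : η ⤳ η' := specializes_iff_mem_closure.2 (by rw [h1]; exact subset_closure rfl)
  have h3 : η' ⤳ η := specializes_iff_mem_closure.2 (by rw [← h1]; exact subset_closure rfl)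
  exact (h2.antisymm h3).eq

/-- A morphism out of a coherent module of depth one which is injective at the generic points is a
monomorphism. -/
theorem mono_of_generic [IsLocallyNoetherian X] [AlgebraicGeometry.IsReduced X]
    (hdim : topologicalKrullDim X ≤ 1) {F P : X.Modules} (hF : Coh.IsCoh F) (hP : Coh.IsCoh P)
    (ι : F ⟶ P) (hcl : ∀ x : X, IsClosed ({x} : Set X) → ¬ Curv2.IsAssPoint F x)
    (hgen : ∀ η : X, IsField (X.presheaf.stalk η) → Function.Injective (stalkLin ι η)) :
    Mono ι := by
  have hK : Coh.IsCoh (kernel ι) := CycB.CohProp.isCoh_kernel ι hF hP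
  refine Preadditive.mono_of_isZero_kernel ι (Dcoh.StalkMod.isZero_of_subsingleton _ fun x => ?_)
  by_contra hns
  have hnt : Nontrivial ((kernel ι).presheaf.stalk x) := not_subsingleton_iff_nontrivial.1 hns
  obtain ⟨Q, hQ⟩ := associatedPrimes.nonempty (X.presheaf.stalk x) ((kernel ι).presheaf.stalk x)
  obtain ⟨U, hU, hxU, -⟩ := exists_isAffineOpen_mem_and_subset (X := X) (x := x) (U := ⊤) trivial
  have hQp : Q.IsPrime := hQ.isPrime
  obtain ⟨y, hy, -, hb⟩ := K471.StalkPrimes.exists_point_of_prime hU hxU ⟨Q, hQp⟩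
  have hass : Curv2.IsAssPoint (kernel ι) y :=
    (K471.StalkPrimes.isAssPoint_iff hU hxU hK.1 hy ⟨Q, hQp⟩ hb).2 hQ
  rw [K977.TFGeneric.isAssPoint_iff] at hass
  obtain ⟨m, hm, hkill⟩ := hass
  have hinj : Function.Injective (stalkLin (kernel.ι ι) y) := stalkLin_injective _ y
  have hne : stalkLin (kernel.ι ι) y m ≠ 0 := fun h => hm (hinj (h.trans (map_zero _).symm))
  by_cases hyc : IsClosed ({y} : Set X)
  · apply hcl y hyc
    rw [K977.TFGeneric.isAssPoint_iff]
    exact ⟨_, hne, fun r hr => by rw [← map_smul, hkill r hr, map_zero]⟩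
  · have hfield := isField_of_not_isClosed hdim y hyc
    apply hne
    apply hgen y hfield
    rw [map_zero, ← LinearMap.comp_apply, ← stalkLin_comp, kernel.condition]
    exact GenIso.stalkLin_zero _ _ _ _

/-- No point whose local ring is a field is closed. -/
theorem not_isField_of_isClosed [IsLocallyNoetherian X] [ConnectedSpace X]
    (hdim : topologicalKrullDim X = 1) (x : X) (hx : IsClosed ({x} : Set X)) :
    ¬ IsField (X.presheaf.stalk x) := by
  intro hf
  have ho := K977.TFGeneric.isOpen_of_isField x hx hf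
  have huniv : ({x} : Set X) = Set.univ := IsClopen.eq_univ ⟨hx, ho⟩ (Set.singleton_nonempty x)
  have hsub : Subsingleton X := ⟨fun a b => by
    have ha : a ∈ ({x} : Set X) := by rw [huniv]; trivial
    have hb : b ∈ ({x} : Set X) := by rw [huniv]; trivial
    rw [Set.mem_singleton_iff.1 ha, Set.mem_singleton_iff.1 hb]⟩
  have h3 : Subsingleton (IrreducibleCloseds X) := by
    refine ⟨fun A B => ?_⟩
    have hA : ∀ C : IrreducibleCloseds X, (C : Set X) = Set.univ := fun C => by
      obtain ⟨c, hc⟩ := C.isIrreducible.nonempty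
      refine Set.eq_univ_of_forall fun d => ?_
      rwa [Subsingleton.elim d c]
    exact SetLike.coe_injective ((hA A).trans (hA B).symm)
  have h4 : topologicalKrullDim X ≤ 0 := Order.krullDim_nonpos_of_subsingleton
  rw [hdim] at h4
  exact absurd h4 (by decide)

section Back

variable [IsLocallyNoetherian X] [AlgebraicGeometry.IsReduced X] {F P : X.Modules} {r : ℕ}
  (hP : PicF.IsInvertible P) (ι : F ⟶ ∐ fun _ : Fin r => P)

include hP

theorem not_isAssPoint [Mono ι] (x : X) (hx : ¬ IsField (X.presheaf.stalk x)) :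
    ¬ Curv2.IsAssPoint F x := by
  intro h
  rw [K977.TFGeneric.isAssPoint_iff] at h
  obtain ⟨m, hm, hkill⟩ := h
  obtain ⟨e⟩ := CurvesB.SubRank.nonempty_stalk_equiv hP x
  have hinj : Function.Injective (stalkLin ι x) := stalkLin_injective _ x
  apply hm
  apply hinj
  rw [map_zero]
  apply (GenIso.stalkSigmaEquiv P r x).injective
  rw [map_zero]
  funext l
  apply e.injective
  rw [Pi.zero_apply, map_zero]
  apply K977.TFGeneric.eq_zero_of_smul_maximalIdeal hx
  intro a ha
  have h1 : e (GenIso.stalkSigmaEquiv P r x (stalkLin ι x (a • m)) l) = 0 := by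
    rw [hkill a ha, map_zero, map_zero, Pi.zero_apply, map_zero]
  rw [map_smul, map_smul, Pi.smul_apply, map_smul, smul_eq_mul] at h1
  exact h1

omit [IsLocallyNoetherian X] [AlgebraicGeometry.IsReduced X] in
theorem nonempty_equiv [Mono ι] (x : X) (hs : Subsingleton ((cokernel ι).presheaf.stalk x)) :
    Nonempty (F.presheaf.stalk x ≃ₗ[X.presheaf.stalk x] (Fin r → X.presheaf.stalk x)) := by
  obtain ⟨e⟩ := CurvesB.SubRank.nonempty_stalk_equiv hP x
  have hsurj : Function.Surjective (stalkLin ι x) :=
    (VarietyA.StalkCrit.subsingleton_cokernel_stalk_iff ι x).1 hs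
  exact ⟨(LinearEquiv.ofBijective (stalkLin ι x) ⟨stalkLin_injective ι x, hsurj⟩).trans
    ((GenIso.stalkSigmaEquiv P r x).trans (LinearEquiv.piCongrRight fun _ => e))⟩

end Back

section Forth

variable (k : Type u) [Field k] [X.Over (Spec (CommRingCat.of k))]

/-- The map into a sum of copies with given components. -/
noncomputable def lift {F P : X.Modules} {r : ℕ} (ψ : Fin r → (F ⟶ P)) :
    F ⟶ ∐ fun _ : Fin r => P := ∑ l, ψ l ≫ Sigma.ι (fun _ : Fin r => P) l

theorem lift_proj {F P : X.Modules} {r : ℕ} (ψ : Fin r → (F ⟶ P)) (l : Fin r) :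
    lift ψ ≫ GenFree.proj P l = ψ l := by
  rw [lift, Preadditive.sum_comp, Finset.sum_eq_single l]
  · have h1 : Sigma.ι (fun _ : Fin r => P) l ≫ GenFree.proj P l = 𝟙 P :=
      (Sigma.ι_desc _ _).trans (if_pos rfl)
    rw [Category.assoc, h1, Category.comp_id]
  · intro j _ hj
    have h1 : Sigma.ι (fun _ : Fin r => P) j ≫ GenFree.proj P l = 0 :=
      (Sigma.ι_desc _ _).trans (if_neg hj)
    rw [Category.assoc, h1, comp_zero]
  · intro h; exact absurd (Finset.mem_univ l) h

theorem stalkSigmaEquiv_lift {F P : X.Modules} {r : ℕ} (ψ : Fin r → (F ⟶ P)) (x : X)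
    (g : F.presheaf.stalk x) (l : Fin r) :
    GenIso.stalkSigmaEquiv P r x (stalkLin (lift ψ) x g) l = stalkLin (ψ l) x g := by
  change stalkLin (GenFree.proj P l) x (stalkLin (lift ψ) x g) = _
  rw [← LinearMap.comp_apply, ← stalkLin_comp, lift_proj]

theorem exists_mono [Infinite k] [IsNoetherian X] [AlgebraicGeometry.IsReduced X]
    (hdim : topologicalKrullDim X ≤ 1) {L : X.Modules} (hL : CohB1.IsAmple L) {F : X.Modules}
    (hF : Coh.IsCoh F) (r : ℕ)
    (hcl : ∀ x : X, IsClosed ({x} : Set X) → ¬ Curv2.IsAssPoint F x)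
    (hgen : ∀ η : X, IsField (X.presheaf.stalk η) →
        Nonempty (F.presheaf.stalk η ≃ₗ[X.presheaf.stalk η] (Fin r → X.presheaf.stalk η))) :
    ∃ (m : ℕ) (ι : F ⟶ ∐ fun _ : Fin r => CohB1.tensorPow L m), Mono ι ∧
      ∀ η : X, IsField (X.presheaf.stalk η) → Subsingleton ((cokernel ι).presheaf.stalk η) := by
  obtain ⟨q, N, φ, -, hφ⟩ := K415.DualEmb.exists_family hL hF
  choose e he h using hφ
  have hfin := finite_isField (X := X)
  let P := CohB1.tensorPow L q
  have hP : PicF.IsInvertible P := Fdesc.LocGen.isInvertible_tensorPow hL.1 q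
  have hPc : Coh.IsCoh P :=
    PerfA.CohSerre.isCoh_of_isFinLocFree (K415.DualEmb.isFinLocFree_of_isInvertible hP)
  obtain ⟨c, hc⟩ := JointBij.exists_choice (k := k) (T := {η : X // IsField (X.presheaf.stalk η)})
    (r := r) (N := N)
    (fun t => X.presheaf.stalk t.1) (fun t => t.2) (fun t => Curv2.stalkMap k X t.1)
    (fun t => F.presheaf.stalk t.1) (fun t => P.presheaf.stalk t.1) (fun t => (hgen t.1 t.2).some)
    (fun t => e t.1) (fun t => he t.1) (fun t i => stalkLin (φ i) t.1) (fun t δ => by
      obtain ⟨a, ha⟩ := h t.1 δ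
      refine ⟨a, fun g => ?_⟩
      rw [ha]
      exact Finset.sum_congr rfl fun i _ => by rw [K476.HomSh1.stalkMapₗ_eq])
  let ψ : Fin r → (F ⟶ P) := fun l => ∑ i, φ i ≫ Formal.smulMod k P (c l i)
  have hψ : ∀ (l : Fin r) (x : X) (g : F.presheaf.stalk x),
      stalkLin (ψ l) x g = ∑ i, Curv2.stalkMap k X x (c l i) • stalkLin (φ i) x g := by
    intro l x g
    change stalkLin (∑ i, φ i ≫ Formal.smulMod k P (c l i)) x g = _
    rw [GenIso.stalkLin_sum]
    refine Finset.sum_congr rfl fun i _ => ?_
    rw [stalkLin_comp]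
    exact CurvesB.PairLemma.stalkLin_smulMod k P (c l i) x _
  have hbij : ∀ η : X, IsField (X.presheaf.stalk η) →
      Function.Bijective (stalkLin (lift ψ) η) := by
    intro η hη
    have h1 := hc ⟨η, hη⟩
    have h2 : Function.Bijective
        (fun g => GenIso.stalkSigmaEquiv P r η (stalkLin (lift ψ) η g)) := by
      convert h1 using 1
      funext g
      funext l
      rw [stalkSigmaEquiv_lift, hψ]
    exact (Function.Bijective.of_comp_iff' (GenIso.stalkSigmaEquiv P r η).bijective _).1 h2
  refine ⟨q, lift ψ, ?_, fun η hη => ?_⟩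
  · exact mono_of_generic hdim hF (CycB.CohProp.isCoh_finite_coproduct _ fun _ => hPc) _ hcl
      fun η hη => (hbij η hη).1
  · exact (VarietyA.StalkCrit.subsingleton_cokernel_stalk_iff _ _).2 (hbij η hη).2

end Forth

end K236.MonoTwist
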