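import Groth.Agent.EtCore.K301.NodeFib
import Groth.Agent.VarietyA.Dim1Top
import Groth.Agent.CurvesB.DimPts
import Groth.Agent.CurvesB.NodeSch2
import Groth.Agent.S1561

/-!
# The nodes of a nodal curve are isolated
-/

set_option autoImplicit false
universe u

open CategoryTheory CategoryTheory.Limits AlgebraicGeometry Opposite TopologicalSpace IsLocalRing
open Groth.Agent

namespace K236.NodeIso

theorem isPrincipal_of_regular {R : Type u} [CommRing R] [IsRegularLocalRing R]
    (h : ringKrullDim R ≤ 1) : (maximalIdeal R).IsPrincipal := by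
  have h1 := IsRegularLocalRing.spanFinrank_maximalIdeal (R := R)
  have hle : (maximalIdeal R).spanFinrank ≤ 1 := by
    rw [← h1] at h
    exact_mod_cast h
  have hfg : (maximalIdeal R).FG := IsNoetherian.noetherian _
  rcases Nat.le_one_iff_eq_zero_or_eq_one.mp hle with h0 | h1'
  · rw [Submodule.spanFinrank_eq_zero_iff_eq_bot hfg] at h0
    rw [h0]; infer_instance
  · exact ((Submodule.spanFinrank_eq_one_iff _).mp h1').1

section Node

variable (k : Type u) [Field k] [IsAlgClosed k] (X : Scheme.{u}) [X.Over (Spec (CommRingCat.of k))]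
  [IsProper (X ↘ Spec (CommRingCat.of k))]

omit [IsAlgClosed k] in
theorem isReduced_of_atWorstNodal (hX : Curv2.AtWorstNodal k X) : AlgebraicGeometry.IsReduced X := by
  have := CurvesB.NodeSch2.geometricallyReduced_of_atWorstNodal k hX
  have : IsLocallyNoetherian (Spec (CommRingCat.of k)) := inferInstance
  exact GeometricallyReduced.isReduced_of_flat_of_isLocallyNoetherian (X ↘ (Spec (CommRingCat.of k)))

omit [IsAlgClosed k] in
include k in
theorem isNoetherian : IsNoetherian X := by
  have h1 : IsLocallyNoetherian X :=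
    LocallyOfFiniteType.isLocallyNoetherian (X ↘ Spec (CommRingCat.of k))
  have h2 : CompactSpace X := by
    have := QuasiCompact.compactSpace_of_compactSpace (X ↘ Spec (CommRingCat.of k))
    exact this
  exact ⟨⟩

theorem not_isNode_of_smooth (hdim : topologicalKrullDim X ≤ 1) [AlgebraicGeometry.IsReduced X]
    (y : X) (hy : y ∈ (X ↘ Spec (CommRingCat.of k)).smoothLocus) : ¬ Curv2.IsNode k X y := by
  intro h
  have h1 : IsRegularLocalRing (X.presheaf.stalk y) := ((S1561.result k X).1 y).1 hy
  exact K301.NodeFib.not_isPrincipal_of_isNode k X y h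
    (isPrincipal_of_regular ((CurvesB.DimPts.ringKrullDim_stalk_le y).trans hdim))

/-- A node has a neighbourhood without other nodes. -/
theorem exists_nhd_no_node (hdim : topologicalKrullDim X ≤ 1) [AlgebraicGeometry.IsReduced X]
    (x : X) : ∃ U : X.Opens, x ∈ U ∧ ∀ y ∈ U, Curv2.IsNode k X y → y = x := by
  have hN := isNoetherian k X
  have h2 : Dense ((X ↘ Spec (CommRingCat.of k)).smoothLocus : Set X) := (S1561.result k X).2
  have hfin := VarietyA.Dim1Top.finite_compl hdim _ h2
  let T : Set X := ((X ↘ Spec (CommRingCat.of k)).smoothLocus : Set X)ᶜ \ {x}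
  have hT : IsClosed T := by
    have h3 : T = ⋃ y ∈ T, ({y} : Set X) := by
      ext z; simp
    rw [h3]
    refine (hfin.subset Set.sdiff_subset).isClosed_biUnion fun y hy => ?_
    exact (VarietyA.Dim1Top.point_of_compl hdim _ h2 y hy.1).1
  refine ⟨⟨Tᶜ, hT.isOpen_compl⟩, fun h => h.2 rfl, fun y hy hn => ?_⟩
  by_contra hyx
  exact hy ⟨fun hs => not_isNode_of_smooth k X hdim y hs hn, hyx⟩

end Node

end K236.NodeIso
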