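import Groth.Agent.Coherent.K47.GenIso
import Groth.Agent.Coherent.K47.StalkLocal
import Groth.Agent.IntTh.K712.IdealStalk
import Groth.Agent.Curves.K319.Setup
import Groth.Agent.SDiv.K476.DivSec
import Groth.Agent.CycB.CohProp
import Groth.Agent.PerfA.CohSerre

/-!
# Coherent modules with isomorphic stalks at a point are isomorphic near it
-/

set_option autoImplicit false
universe u

open CategoryTheory CategoryTheory.Limits AlgebraicGeometry Opposite TopologicalSpace
open AlgebraicGeometry.Scheme.Modules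
open Groth.Agent Groth.Agent.CohqB.DevSupport Groth.Agent.CycB.StalkExact
open Groth.Agent.Coherent.K47

namespace K236.NodeNear

section Iso

variable {X : Scheme.{u}}

/-- The stalk of a binary coproduct. -/
noncomputable def stalkCoprodEquiv (A B : X.Modules) (x : X) :
    (A ⨿ B).presheaf.stalk x ≃ₗ[X.presheaf.stalk x] (A.presheaf.stalk x × B.presheaf.stalk x) where
  toFun z := (stalkLin (coprod.desc (𝟙 A) 0) x z, stalkLin (coprod.desc 0 (𝟙 B)) x z)
  map_add' z z' := by ext <;> exact map_add _ _ _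
  map_smul' a z := by ext <;> exact LinearMap.map_smul _ _ _
  invFun v := stalkLin (coprod.inl : A ⟶ A ⨿ B) x v.1 + stalkLin (coprod.inr : B ⟶ A ⨿ B) x v.2
  left_inv z := by
    have h0 : coprod.desc (𝟙 A) 0 ≫ (coprod.inl : A ⟶ A ⨿ B) +
        coprod.desc 0 (𝟙 B) ≫ (coprod.inr : B ⟶ A ⨿ B) = 𝟙 _ := by
      apply coprod.hom_ext
      · rw [Preadditive.comp_add, coprod.inl_desc_assoc, coprod.inl_desc_assoc, Category.id_comp,
          zero_comp, add_zero, Category.comp_id]
      · rw [Preadditive.comp_add, coprod.inr_desc_assoc, coprod.inr_desc_assoc, Category.id_comp,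
          zero_comp, zero_add, Category.comp_id]
    change stalkLin _ x (stalkLin _ x z) + stalkLin _ x (stalkLin _ x z) = z
    rw [← LinearMap.comp_apply, ← LinearMap.comp_apply, ← stalkLin_comp, ← stalkLin_comp,
      ← GenIso.stalkLin_add, h0, stalkLin_id]
    rfl
  right_inv v := by
    obtain ⟨a, b⟩ := v
    have e1 : (coprod.inl : A ⟶ A ⨿ B) ≫ coprod.desc (𝟙 A) 0 = 𝟙 A := coprod.inl_desc _ _
    have e2 : (coprod.inr : B ⟶ A ⨿ B) ≫ coprod.desc (𝟙 A) 0 = 0 := coprod.inr_desc _ _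
    have e3 : (coprod.inl : A ⟶ A ⨿ B) ≫ coprod.desc 0 (𝟙 B) = 0 := coprod.inl_desc _ _
    have e4 : (coprod.inr : B ⟶ A ⨿ B) ≫ coprod.desc 0 (𝟙 B) = 𝟙 B := coprod.inr_desc _ _
    refine Prod.ext ?_ ?_
    · change stalkLin _ x (stalkLin _ x a + stalkLin _ x b) = a
      rw [map_add, ← LinearMap.comp_apply, ← LinearMap.comp_apply, ← stalkLin_comp,
        ← stalkLin_comp, e1, e2, stalkLin_id, GenIso.stalkLin_zero, add_zero]
      rfl
    · change stalkLin _ x (stalkLin _ x a + stalkLin _ x b) = b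
      rw [map_add, ← LinearMap.comp_apply, ← LinearMap.comp_apply, ← stalkLin_comp,
        ← stalkLin_comp, e3, e4, stalkLin_id, GenIso.stalkLin_zero, zero_add]
      rfl

/-- The stalk of the structure module. -/
noncomputable def stalkIdealModEquiv (I : X.IdealSheafData) (x : X) :
    (ClSub.idealMod I).presheaf.stalk x ≃ₗ[X.presheaf.stalk x] IntMult.stalkIdeal I x :=
  LinearEquiv.ofBijective
    ((K712.IdealStalk.sval I x).codRestrict (IntMult.stalkIdeal I x)
      (K712.IdealStalk.sval_mem I x))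
    ⟨fun a b h => K712.IdealStalk.sval_injective I x (congrArg Subtype.val h), fun b => by
      obtain ⟨t, ht⟩ := K712.IdealStalk.exists_sval_eq I x b.2
      exact ⟨t, Subtype.ext ht⟩⟩

theorem isIso_map_of_le {U : Scheme.{u}} {V W : Scheme.{u}} (i : V ⟶ U) (j : W ⟶ U)
    [IsOpenImmersion i] [IsOpenImmersion j] (h : Set.range j ⊆ Set.range i)
    {M N : U.Modules} (φ : M ⟶ N) (hφ : IsIso ((restrictFunctor i).map φ)) :
    IsIso ((restrictFunctor j).map φ) := by
  have hj : IsOpenImmersion.lift i j h ≫ i = j := IsOpenImmersion.lift_fac _ _ _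
  have ho : IsOpenImmersion (IsOpenImmersion.lift i j h) := inferInstance
  let e : restrictFunctor j ≅ restrictFunctor i ⋙ restrictFunctor (IsOpenImmersion.lift i j h) :=
    restrictFunctorCongr hj.symm ≪≫ restrictFunctorComp _ _
  rw [NatIso.isIso_map_iff e]
  change IsIso ((restrictFunctor (IsOpenImmersion.lift i j h)).map ((restrictFunctor i).map φ))
  infer_instance

/-- Two coherent modules with isomorphic stalks at `x` are isomorphic near `x`, inside any given
neighbourhood. -/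
theorem exists_restrict_iso [IsLocallyNoetherian X] {M N : X.Modules} (hM : Coh.IsCoh M)
    (hN : Coh.IsCoh N) (x : X)
    (ψ : M.presheaf.stalk x ≃ₗ[X.presheaf.stalk x] N.presheaf.stalk x) (V : X.Opens)
    (hxV : x ∈ V) :
    ∃ U : X.Opens, x ∈ U ∧ U ≤ V ∧ Nonempty (M.restrict U.ι ≅ N.restrict U.ι) := by
  obtain ⟨U, hx, φ, hφ⟩ := GenIso.exists_isIso_nhd hM x ψ
  have hNU : IsLocallyNoetherian (U : Scheme.{u}) := inferInstance
  obtain ⟨W, hxW, hW⟩ := StalkLocal.exists_isIso
    (F := (restrictFunctor U.ι).obj N) (G := (restrictFunctor U.ι).obj M)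
    (PerfA.CohSerre.isCoh_restrict U.ι hN) (PerfA.CohSerre.isCoh_restrict U.ι hM) φ
    (⟨x, hx⟩ : U) hφ
  let T : X.Opens := (U.ι ''ᵁ W) ⊓ V
  have hTU : T ≤ U := inf_le_left.trans (U.ι.image_le_opensRange W |>.trans (by simp))
  have hxT : x ∈ T := ⟨⟨⟨x, hx⟩, hxW, rfl⟩, hxV⟩
  refine ⟨T, hxT, inf_le_right, ?_⟩
  have h1 : IsIso ((restrictFunctor (X.homOfLE hTU)).map φ) := by
    refine isIso_map_of_le W.ι (X.homOfLE hTU) ?_ φ hW
    rintro _ ⟨t, rfl⟩
    rw [Scheme.Opens.range_ι]
    obtain ⟨⟨w, hw, hw'⟩, -⟩ := t.2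
    have : (X.homOfLE hTU) t = w := by
      apply U.ι.isOpenEmbedding.injective
      refine Eq.trans ?_ hw'.symm
      rw [← Scheme.Hom.comp_apply, Scheme.homOfLE_ι]
      rfl
    rw [this]
    exact hw
  let e : restrictFunctor T.ι ≅ restrictFunctor U.ι ⋙ restrictFunctor (X.homOfLE hTU) :=
    restrictFunctorCongr (Scheme.homOfLE_ι _ _).symm ≪≫ restrictFunctorComp _ _
  exact ⟨e.app M ≪≫ asIso ((restrictFunctor (X.homOfLE hTU)).map φ) ≪≫ (e.app N).symm⟩

end Iso

end K236.NodeNear
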