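import Mathlib.GroupTheory.CosetCover
import Mathlib.LinearAlgebra.Dimension.Constructions
import Mathlib.LinearAlgebra.FiniteDimensional.Basic
import Mathlib.LinearAlgebra.Dimension.LinearMap

/-!
# Choosing linear combinations with coefficients in an infinite field, simultaneously independent
over finitely many extension fields
-/

set_option autoImplicit false
universe u v w

namespace K236.SpanAvoid

open Submodule

theorem exists_good {k : Type u} [Field k] [Infinite k] {T : Type v} [Finite T] {N : ℕ}
    (K : T → Type w) [∀ t, Field (K t)] (σ : ∀ t, k →+* K t)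
    (V : T → Type w) [∀ t, AddCommGroup (V t)] [∀ t, Module (K t) (V t)]
    {r : ℕ} (hr : ∀ t, Module.finrank (K t) (V t) = r) [∀ t, Module.Finite (K t) (V t)]
    (v : ∀ t, Fin N → V t) (hv : ∀ t, span (K t) (Set.range (v t)) = ⊤) (j : ℕ) (hj : j ≤ r) :
    ∃ c : Fin j → Fin N → k, ∀ t, LinearIndependent (K t) (fun l => ∑ i, σ t (c l i) • v t i) := by
  classical
  induction j with
  | zero => exact ⟨Fin.elim0, fun t => linearIndependent_empty_type⟩
  | succ j IH =>
    obtain ⟨c, hc⟩ := IH (by omega)
    let W : T → Submodule k (Fin N → k) := fun t =>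
      { carrier := {d | ∑ i, σ t (d i) • v t i ∈
          span (K t) (Set.range fun l => ∑ i, σ t (c l i) • v t i)}
        add_mem' := by
          intro a b ha hb
          have : ∑ i, σ t ((a + b) i) • v t i = ∑ i, σ t (a i) • v t i + ∑ i, σ t (b i) • v t i := by
            rw [← Finset.sum_add_distrib]
            refine Finset.sum_congr rfl fun i _ => ?_
            rw [Pi.add_apply, map_add, add_smul]
          change ∑ i, σ t ((a + b) i) • v t i ∈ span (K t) (Set.range fun l => ∑ i, σ t (c l i) • v t i)
          rw [this]
          exact add_mem ha hb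
        zero_mem' := by
          change ∑ i, σ t ((0 : Fin N → k) i) • v t i ∈ span (K t) (Set.range fun l => ∑ i, σ t (c l i) • v t i)
          rw [Finset.sum_eq_zero fun i _ => by rw [Pi.zero_apply, map_zero, zero_smul]]
          exact zero_mem _
        smul_mem' := by
          intro a b hb
          have : ∑ i, σ t ((a • b) i) • v t i = σ t a • ∑ i, σ t (b i) • v t i := by
            rw [Finset.smul_sum]
            refine Finset.sum_congr rfl fun i _ => ?_
            rw [Pi.smul_apply, smul_eq_mul, map_mul, mul_smul]
          change ∑ i, σ t ((a • b) i) • v t i ∈ span (K t) (Set.range fun l => ∑ i, σ t (c l i) • v t i)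
          rw [this]
          exact smul_mem _ _ hb }
    have hW : ∀ t, W t ≠ ⊤ := by
      intro t ht
      have h1 : span (K t) (Set.range fun l => ∑ i, σ t (c l i) • v t i) = ⊤ := by
        rw [eq_top_iff, ← hv t, span_le]
        rintro _ ⟨i, rfl⟩
        have h2 : (Pi.single i 1 : Fin N → k) ∈ W t := by rw [ht]; trivial
        have h3 : ∑ i', σ t ((Pi.single i 1 : Fin N → k) i') • v t i' = v t i := by
          rw [Finset.sum_eq_single i]
          · rw [Pi.single_eq_same, map_one, one_smul]
          · intro i' _ hi'
            rw [Pi.single_eq_of_ne hi', map_zero, zero_smul]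
          · intro h; exact absurd (Finset.mem_univ _) h
        have h4 : ∑ i', σ t ((Pi.single i 1 : Fin N → k) i') • v t i' ∈
          span (K t) (Set.range fun l => ∑ i, σ t (c l i) • v t i) := h2
        rwa [h3] at h4
      have h2 : Module.finrank (K t) (V t) ≤ j := by
        rw [← finrank_top (R := K t), ← h1]
        exact (finrank_range_le_card (R := K t) (b := fun l => ∑ i, σ t (c l i) • v t i)).trans
          (by simp)
      rw [hr t] at h2
      omega
    have := Fintype.ofFinite T
    have hne := Subspace.biUnion_ne_univ_of_top_notMem (k := k) (E := Fin N → k)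
      (s := Finset.univ.image W) (by
        intro h
        obtain ⟨t, -, ht⟩ := Finset.mem_image.1 h
        exact hW t ht)
    obtain ⟨d, hd⟩ := (Set.ne_univ_iff_exists_notMem _).1 hne
    have hd' : ∀ t, d ∉ W t := by
      intro t ht
      apply hd
      exact Set.mem_biUnion (Finset.mem_coe.2 (Finset.mem_image_of_mem W (Finset.mem_univ t))) ht
    refine ⟨Fin.snoc c d, fun t => ?_⟩
    have h5 : (fun l => ∑ i, σ t ((Fin.snoc c d : Fin (j + 1) → Fin N → k) l i) • v t i) =
        Fin.snoc (fun l => ∑ i, σ t (c l i) • v t i) (∑ i, σ t (d i) • v t i) := by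
      funext l
      refine Fin.lastCases ?_ (fun l => ?_) l
      · simp
      · simp
    rw [h5, linearIndependent_finSnoc]
    exact ⟨hc t, hd' t⟩

end K236.SpanAvoid
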